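import Mathlib

/-!
Binary forms: dimension of the space of forms of a given degree.
-/

open MvPolynomial

namespace GrothLib.BinForm

variable (K : Type*) [Field K]

/-- exponents of total degree `m` in two variables -/
noncomputable def expEquiv (m : ℕ) : {d : Fin 2 →₀ ℕ | d.degree = m} ≃ Fin (m + 1) where
  toFun d := ⟨d.1 0, by
    have := d.2
    simp only [Set.mem_setOf_eq, Finsupp.degree_eq_sum, Fin.sum_univ_two] at this
    omega⟩
  invFun i := ⟨Finsupp.single 0 (i : ℕ) + Finsupp.single 1 (m - i), by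
    simp [Finsupp.degree_eq_sum, Fin.sum_univ_two]; omega⟩
  left_inv d := by
    have := d.2
    simp only [Set.mem_setOf_eq, Finsupp.degree_eq_sum, Fin.sum_univ_two] at this
    ext i
    fin_cases i <;> simp <;> omega
  right_inv i := by simp

/-- the space of binary forms of degree `m` is `K^(m+1)` -/
noncomputable def coeffEquiv (m : ℕ) :
    homogeneousSubmodule (Fin 2) K m ≃ₗ[K] (Fin (m + 1) → K) :=
  (LinearEquiv.ofEq _ _ (homogeneousSubmodule_eq_finsupp_supported (Fin 2) K m)).trans <|
    (AddMonoidAlgebra.supportedEquivFinsupp (R := K) (S := K) {d : Fin 2 →₀ ℕ | d.degree = m}).trans <|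
      (Finsupp.domLCongr (expEquiv m)).trans (Finsupp.linearEquivFunOnFinite K K _)

instance (m : ℕ) : Module.Finite K (homogeneousSubmodule (Fin 2) K m) :=
  Module.Finite.equiv (coeffEquiv K m).symm

theorem finrank_forms (m : ℕ) : Module.finrank K (homogeneousSubmodule (Fin 2) K m) = m + 1 := by
  rw [(coeffEquiv K m).finrank_eq, Module.finrank_fin_fun]

theorem mul_mem {a b c : ℕ} (h : a + b = c) {g f : MvPolynomial (Fin 2) K}
    (hg : g ∈ homogeneousSubmodule (Fin 2) K a) (hf : f ∈ homogeneousSubmodule (Fin 2) K b) :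
    g * f ∈ homogeneousSubmodule (Fin 2) K c :=
  h ▸ IsHomogeneous.mul hg hf

/-- multiplication `S_a → Hom(S_b, S_c)` -/
noncomputable def mulForms (a b c : ℕ) (h : a + b = c) :
    homogeneousSubmodule (Fin 2) K a →ₗ[K]
      homogeneousSubmodule (Fin 2) K b →ₗ[K] homogeneousSubmodule (Fin 2) K c :=
  LinearMap.mk₂ K (fun g f => ⟨g.1 * f.1, mul_mem K h g.2 f.2⟩)
    (fun x y z => Subtype.ext (add_mul x.1 y.1 z.1))
    (fun r x z => Subtype.ext (smul_mul_assoc r x.1 z.1))
    (fun x y z => Subtype.ext (mul_add x.1 y.1 z.1))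
    (fun r x z => Subtype.ext (mul_smul_comm r x.1 z.1))

@[simp] theorem mulForms_apply (a b c : ℕ) (h : a + b = c) (g : homogeneousSubmodule (Fin 2) K a)
    (f : homogeneousSubmodule (Fin 2) K b) : (mulForms K a b c h g f).1 = g.1 * f.1 := rfl

end GrothLib.BinForm
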