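import Mathlib

/-!
Common factors and common zeros of binary forms over an algebraically closed field.
-/

open MvPolynomial

namespace GrothLib.BinForm

variable {k : Type*} [Field k]

theorem eval_smul_of_isHomogeneous {σ : Type*} {F : MvPolynomial σ k} {d : ℕ}
    (hF : F.IsHomogeneous d) (t : k) (a : σ → k) : eval (t • a) F = t ^ d * eval a F := by
  simp only [eval_eq, Finset.mul_sum]
  refine Finset.sum_congr rfl fun e he => ?_
  have hde : Finsupp.degree e = d := by
    rw [Finsupp.degree_eq_weight_one]; exact hF (mem_support_iff.mp he)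
  simp only [Pi.smul_apply, smul_eq_mul, mul_pow, Finset.prod_mul_distrib,
    Finset.prod_pow_eq_pow_sum]
  rw [show ∑ i ∈ e.support, e i = d by rw [← hde]; rfl]
  ring

variable [IsAlgClosed k]

/-- A polynomial in two variables which is not a unit has a zero other than the origin. -/
theorem exists_zero_of_not_isUnit (H : MvPolynomial (Fin 2) k) (hH : ¬ IsUnit H) :
    ∃ a : Fin 2 → k, a ≠ 0 ∧ eval a H = 0 := by
  rcases eq_or_ne H 0 with rfl | hH0
  · exact ⟨1, one_ne_zero, map_zero _⟩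
  by_contra hcon
  push Not at hcon
  have hpow : ∀ i, ∃ m : ℕ, H ∣ X i ^ m := by
    intro i
    have hi : X i ∈ vanishingIdeal k (zeroLocus k (Ideal.span {H})) := by
      intro a ha
      have ha0 : eval a H = 0 := by
        simpa [aeval_eq_eval] using ha H (Ideal.subset_span rfl)
      rcases eq_or_ne a 0 with rfl | h
      · simp
      · exact absurd ha0 (hcon a h)
    rw [vanishingIdeal_zeroLocus_eq_radical] at hi
    obtain ⟨m, hm⟩ := hi
    exact ⟨m, Ideal.mem_span_singleton.mp hm⟩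
  obtain ⟨m, hm⟩ := hpow 0
  obtain ⟨n, hn⟩ := hpow 1
  have hprime : Prime (X 0 : MvPolynomial (Fin 2) k) := X_prime
  obtain ⟨j, -, hj⟩ := (dvd_prime_pow hprime m).mp hm
  cases j with
  | zero => exact hH (associated_one_iff_isUnit.mp (by simpa using hj))
  | succ j =>
    have h : (X 0 : MvPolynomial (Fin 2) k) ∣ X 1 :=
      hprime.dvd_of_dvd_pow (((dvd_pow_self _ j.succ_ne_zero).trans hj.symm.dvd).trans hn)
    obtain ⟨c, hc⟩ := h
    have := congrArg (eval ![(0 : k), 1]) hc
    simp at this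

/-- Forms vanishing at a common nonzero point have a common nonunit factor. -/
theorem exists_factor_of_zero {ι : Type*} (F : ι → MvPolynomial (Fin 2) k) (d : ι → ℕ)
    (hF : ∀ i, (F i).IsHomogeneous (d i)) (a : Fin 2 → k) (ha : a ≠ 0)
    (h : ∀ i, eval a (F i) = 0) : ∃ H, ¬ IsUnit H ∧ ∀ i, H ∣ F i := by
  set ℓ : MvPolynomial (Fin 2) k := C (a 1) * X 0 - C (a 0) * X 1 with hℓ
  have hℓa : eval a ℓ = 0 := by simp [hℓ]; ring
  have hℓu : ¬ IsUnit ℓ := fun hu => by simpa [hℓa] using hu.map (eval a)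
  have hℓ0 : ℓ ≠ 0 := by
    intro h0
    apply ha
    have h1 := congrArg (eval ![(1 : k), 0]) h0
    have h2 := congrArg (eval ![(0 : k), 1]) h0
    simp [hℓ] at h1 h2
    ext i; fin_cases i <;> simp [h1, h2]
  obtain ⟨p, hp, hpℓ⟩ := WfDvdMonoid.exists_irreducible_factor hℓu hℓ0
  refine ⟨p, hp.not_isUnit, fun i => ?_⟩
  have hline : F i ∈ vanishingIdeal k (zeroLocus k (Ideal.span {ℓ})) := by
    intro b hb
    have hb0 : eval b ℓ = 0 := by simpa [aeval_eq_eval] using hb ℓ (Ideal.subset_span rfl)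
    simp [hℓ] at hb0
    rw [aeval_eq_eval]
    obtain ⟨t, rfl⟩ : ∃ t : k, t • a = b := by
      by_cases h0 : a 0 = 0
      · have h1 : a 1 ≠ 0 := fun h1 => ha (by ext i; fin_cases i <;> assumption)
        refine ⟨b 1 / a 1, ?_⟩
        ext i; fin_cases i
        · simp [h0] at hb0 ⊢
          rcases hb0 with hb0 | hb0
          · exact absurd hb0 h1
          · exact hb0.symm
        · simp [h1]
      · refine ⟨b 0 / a 0, ?_⟩
        ext i; fin_cases i
        · simp [h0]
        · simp only [Pi.smul_apply, smul_eq_mul, Fin.mk_one]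
          rw [div_mul_eq_mul_div, div_eq_iff h0]
          linear_combination hb0
    rw [eval_smul_of_isHomogeneous (hF i), h i, mul_zero]
  rw [vanishingIdeal_zeroLocus_eq_radical] at hline
  obtain ⟨m, hm⟩ := hline
  exact (UniqueFactorizationMonoid.irreducible_iff_prime.mp hp).dvd_of_dvd_pow
    (hpℓ.trans (Ideal.mem_span_singleton.mp hm))

theorem common_factor_iff {ι : Type*} (F : ι → MvPolynomial (Fin 2) k) (d : ι → ℕ)
    (hF : ∀ i, (F i).IsHomogeneous (d i)) :
    (∃ H, ¬ IsUnit H ∧ ∀ i, H ∣ F i) ↔ ∃ a : Fin 2 → k, a ≠ 0 ∧ ∀ i, eval a (F i) = 0 := by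
  refine ⟨fun ⟨H, hH, hdvd⟩ => ?_, fun ⟨a, ha, h⟩ => exists_factor_of_zero F d hF a ha h⟩
  obtain ⟨a, ha, hHa⟩ := exists_zero_of_not_isUnit H hH
  refine ⟨a, ha, fun i => ?_⟩
  obtain ⟨c, hc⟩ := hdvd i
  rw [hc, map_mul, hHa, zero_mul]

/-- Forms without a common nonzero zero span all forms of large degree. -/
theorem exists_pow_X_mem {ι : Type*} (F : ι → MvPolynomial (Fin 2) k)
    (h : ∀ a : Fin 2 → k, (∀ i, eval a (F i) = 0) → a = 0) :
    ∃ N : ℕ, ∀ j, X j ^ N ∈ Ideal.span (Set.range F) := by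
  have hX : ∀ j, X j ∈ (Ideal.span (Set.range F)).radical := by
    intro j
    rw [← vanishingIdeal_zeroLocus_eq_radical (K := k)]
    intro a ha
    rw [aeval_eq_eval]
    simp [h a fun i => by simpa [aeval_eq_eval] using ha _ (Ideal.subset_span ⟨i, rfl⟩)]
  obtain ⟨m, hm⟩ := hX 0
  obtain ⟨n, hn⟩ := hX 1
  exact ⟨m + n, fun j => by
    fin_cases j
    · exact Ideal.pow_mem_of_pow_mem _ hm (by omega)
    · exact Ideal.pow_mem_of_pow_mem _ hn (by omega)⟩

end GrothLib.BinForm
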